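import Mathlib
import Cfsg.Prelude.Def_LieExceptional
import Cfsg.Prelude.Def_Exceptional
import Cfsg.Agent.SuzId.Cube2
import Cfsg.Agent.Suz2.OrderSq

/-!
From Zassenhaus groups with a regular normal 2-subgroup of a point stabiliser to the set-up `ZS`;
simple Zassenhaus groups with a non-abelian 2-group as kernel have Suzuki order.
-/

set_option autoImplicit false

namespace Cfsg.Agent.SuzId

open Cfsg Cfsg.Agent.H20 Cfsg.Agent.H20.RO MulAction

variable {G Ω : Type*} [Group G] [MulAction G Ω] [Finite G] [Finite Ω]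

omit [Finite G] in
theorem card_of_reg {a b : Ω} (hab : a ≠ b) {U : Subgroup G} (hUle : U ≤ stabilizer G a)
    (hreg : ∀ c d : Ω, c ≠ a → d ≠ a → ∃! u : U, (u : G) • c = d) : Nat.card Ω = Nat.card U + 1 := by
  classical
  have hne : ∀ u : U, (u : G) • b ≠ a := by
    intro u hu
    apply hab
    have h1 : (u : G) • a = a := hUle u.2
    rw [← h1] at hu
    exact (smul_left_cancel _ hu).symm
  have e : U ≃ {c : Ω // c ≠ a} := Equiv.ofBijective (fun u => ⟨(u : G) • b, hne u⟩) (by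
    constructor
    · intro u v huv
      obtain ⟨w, -, hw⟩ := hreg b ((u : G) • b) hab.symm (hne u)
      rw [hw u rfl, hw v (congrArg Subtype.val huv).symm]
    · rintro ⟨c, hc⟩
      obtain ⟨u, hu, -⟩ := hreg b c hab.symm hc
      exact ⟨u, Subtype.ext hu⟩)
  rw [← Nat.card_congr (Equiv.optionSubtypeNe a), Finite.card_option, Nat.card_congr e]

theorem odd_D (h3 : ∀ g : G, ∀ a b c : Ω, a ≠ b → b ≠ c → a ≠ c → g • a = a → g • b = b → g • c = c → g = 1)
    (hodd : Odd (Nat.card Ω)) {a b : Ω} (hab : a ≠ b) :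
    Odd (Nat.card (stabilizer G a ⊓ stabilizer G b : Subgroup G)) := by
  classical
  letI := Fintype.ofFinite Ω
  by_contra hne
  rw [Nat.not_odd_iff_even] at hne
  have : Fact (Nat.Prime 2) := ⟨Nat.prime_two⟩
  obtain ⟨d, hd⟩ := exists_prime_orderOf_dvd_card' (G := (stabilizer G a ⊓ stabilizer G b : Subgroup G)) 2
    hne.two_dvd
  have hd1 : (d : G) ≠ 1 := by
    intro e
    have : d = 1 := Subtype.ext e
    rw [this, orderOf_one] at hd
    omega
  have hdd : (d : G) * d = 1 := by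
    have := pow_orderOf_eq_one d
    rw [hd, pow_two] at this
    exact congrArg Subtype.val this
  have hda : (d : G) • a = a := d.2.1
  have hdb : (d : G) • b = b := d.2.2
  let f : Function.End Ω := fun x => (d : G) • x
  have h1 := Equiv.Perm.card_fixedPoints_modEq (f := f) (p := 2) (n := 1) (by
    funext x
    rw [pow_one]
    show (d : G) • (d : G) • x = x
    rw [← mul_smul, hdd, one_smul])
  -- the fixed points are `a`, `b`
  have h2 : Function.fixedPoints f = {a, b} := by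
    ext x
    constructor
    · intro hx
      have hx' : (d : G) • x = x := hx
      by_contra hcon
      have h4 : x ≠ a := fun e => hcon (Or.inl e)
      have h5 : x ≠ b := fun e => hcon (Or.inr e)
      exact hd1 (h3 d a b x hab (Ne.symm h5) (Ne.symm h4) hda hdb hx')
    · rintro (rfl | rfl)
      · exact hda
      · exact hdb
  have h4 : Fintype.card (Function.fixedPoints f) = 2 := by
    rw [← Nat.card_eq_fintype_card, h2, Nat.card_coe_set_eq, Set.ncard_pair hab]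
  rw [h4, ← Nat.card_eq_fintype_card] at h1
  obtain ⟨k, hk⟩ := hodd
  rw [hk] at h1
  have h5 : (2 * k + 1) % 2 = 2 % 2 := h1
  omega

theorem zs_of (hZ : IsZassenhausGroup G Ω) {a b : Ω} (hab : a ≠ b) (U : Subgroup G)
    (hUle : U ≤ stabilizer G a) (hUn : ∀ h ∈ stabilizer G a, ∀ u ∈ U, h * u * h⁻¹ ∈ U)
    (hreg : ∀ c d : Ω, c ≠ a → d ≠ a → ∃! u : U, (u : G) • c = d)
    (hU2 : IsPGroup 2 U) (hU1 : ∃ u ∈ U, u ≠ 1) : ∃ t : G, t • a = b ∧ ZS G Ω a t U := by
  classical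
  obtain ⟨hf, h2, h3, hex, -⟩ := hZ
  have h2' : ∀ {a b c d : Ω}, a ≠ b → c ≠ d → ∃ g : G, g • a = c ∧ g • b = d :=
    fun hab hcd => (MulAction.is_two_pretransitive_iff.1 h2) hab hcd
  obtain ⟨u, hu, hu1⟩ := hU1
  have : Fact (Nat.Prime 2) := ⟨Nat.prime_two⟩
  have heven : Even (Nat.card U) := by
    obtain ⟨n, hn⟩ := IsPGroup.iff_card.1 hU2
    have hnt : Nontrivial U := ⟨⟨⟨u, hu⟩, 1, fun e => hu1 (congrArg Subtype.val e)⟩⟩
    have h1 : 1 < Nat.card U := Finite.one_lt_card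
    have hn0 : n ≠ 0 := by rintro rfl; rw [hn] at h1; norm_num at h1
    rw [hn]
    exact (Nat.even_pow' hn0).2 even_two
  have hcard := card_of_reg hab hUle hreg
  have hodd : Odd (Nat.card Ω) := by rw [hcard]; exact heven.add_one
  have hDodd := odd_D (G := G) h3 hodd hab
  obtain ⟨g, hg1, hg2⟩ := h2' hab hab.symm
  obtain ⟨o, ho⟩ : ∃ o, o = Nat.card (stabilizer G a ⊓ stabilizer G b : Subgroup G) := ⟨_, rfl⟩
  rw [← ho] at hDodd
  have hgg : g * g ∈ (stabilizer G a ⊓ stabilizer G b : Subgroup G) := by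
    rw [Subgroup.mem_inf, mem_stabilizer_iff, mem_stabilizer_iff]
    constructor
    · rw [mul_smul, hg1, hg2]
    · rw [mul_smul, hg2, hg1]
  have hggo : (g * g) ^ o = 1 := by
    have := pow_card_eq_one' (x := (⟨g * g, hgg⟩ : (stabilizer G a ⊓ stabilizer G b : Subgroup G)))
    rw [← ho] at this
    exact congrArg Subtype.val this
  obtain ⟨k, hk⟩ := hDodd
  have hgk : ∀ m : ℕ, (g * g) ^ m • a = a ∧ (g * g) ^ m • b = b := by
    intro m
    have := pow_mem hgg m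
    exact ⟨this.1, this.2⟩
  have hto : g ^ o = (g * g) ^ k * g := by
    rw [hk, pow_succ, pow_mul, pow_two]
  have hta : g ^ o • a = b := by rw [hto, mul_smul, hg1, (hgk k).2]
  have htb : g ^ o • b = a := by rw [hto, mul_smul, hg2, (hgk k).1]
  refine ⟨g ^ o, hta, ?_⟩
  have hreg1 : ∀ u ∈ U, u • b = b → u = 1 := by
    intro u hu hub
    obtain ⟨w, -, hw⟩ := hreg b b hab.symm hab.symm
    have e1 := hw ⟨u, hu⟩ hub
    have e2 := hw 1 (one_smul _ _)
    exact congrArg Subtype.val (e1.trans e2.symm)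
  refine ⟨⟨h2, ?_, ?_, ?_, hUle, hUn, ?_, ?_, heven, ?_⟩, ?_, ?_, hU2⟩
  · rw [← hggo, ← pow_two, ← pow_mul, ← pow_two, ← pow_mul, mul_comm]
  · intro e
    rw [e, one_smul] at hta
    exact hab hta
  · intro e
    rw [mem_stabilizer_iff, hta] at e
    exact hab e.symm
  · rw [hta, eq_bot_iff]
    intro x hx
    exact Subgroup.mem_bot.2 (hreg1 x hx.1 hx.2)
  · rw [hta]
    refine le_antisymm (sup_le hUle inf_le_left) ?_
    intro x hx
    have hxb : x • b ≠ a := by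
      intro e
      have hx' : x • a = a := hx
      rw [← hx'] at e
      exact hab (smul_left_cancel _ e).symm
    obtain ⟨w, hw, -⟩ := hreg b (x • b) hab.symm hxb
    have e1 : x = w * ((w : G)⁻¹ * x) := by group
    rw [e1]
    refine Subgroup.mul_mem _ (Subgroup.mem_sup_left w.2) (Subgroup.mem_sup_right ?_)
    rw [Subgroup.mem_inf]
    refine ⟨mul_mem (inv_mem (hUle w.2)) hx, ?_⟩
    rw [mem_stabilizer_iff, mul_smul]
    have hw' : (w : G) • b = x • b := hw
    rw [← hw', inv_smul_smul]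
  · rw [hta, ← ho]; exact ⟨k, hk⟩
  · intro g x y z hxy hyz hxz
    exact h3 g x y z hxy hyz hxz
  · obtain ⟨s, hs1, x, y, hxy, hsx, hsy⟩ := hex
    obtain ⟨w, hw1, hw2⟩ := h2' hxy hab
    have hwi1 : w⁻¹ • a = x := by rw [← hw1, inv_smul_smul]
    have hwi2 : w⁻¹ • b = y := by rw [← hw2, inv_smul_smul]
    refine ⟨w * s * w⁻¹, ?_, ?_⟩
    · rw [mem_DD, hta]
      constructor
      · rw [mul_smul, mul_smul, hwi1, hsx, hw1]
      · rw [mul_smul, mul_smul, hwi2, hsy, hw2]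
    · intro e
      apply hs1
      calc s = w⁻¹ * (w * s * w⁻¹) * w := by group
        _ = 1 := by rw [e]; group

theorem zas_main (hZ : IsZassenhausGroup G Ω) {a b : Ω} (hab : a ≠ b) (U : Subgroup G)
    (hUle : U ≤ stabilizer G a) (hUn : ∀ h ∈ stabilizer G a, ∀ u ∈ U, h * u * h⁻¹ ∈ U)
    (hreg : ∀ c d : Ω, c ≠ a → d ≠ a → ∃! u : U, (u : G) • c = d)
    (hU2 : IsPGroup 2 U) (hna : ∃ u ∈ U, ∃ v ∈ U, u * v ≠ v * u) :
    ∃ n : ℕ, Odd n ∧ 1 < n ∧ Nat.card Ω = 2 ^ (2 * n) + 1 ∧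
      Nat.card G = (2 ^ n) ^ 2 * (2 ^ n - 1) * ((2 ^ n) ^ 2 + 1) ∧
      IsCyclic ↥(MulAction.stabilizer G a ⊓ MulAction.stabilizer G b) ∧
      Nat.card ↥(MulAction.stabilizer G a ⊓ MulAction.stabilizer G b) = 2 ^ n - 1 ∧
      ∃ (F : Type) (_ : Field F) (_ : Fintype F) (φ : F ≃+* F), Fintype.card F = 2 ^ n ∧
        Nonempty (U ≃* Cfsg.suzukiTypeA F (φ : F →+* F)) := by
  classical
  obtain ⟨u, hu, v, hv, huv⟩ := hna
  obtain ⟨t, htb, h⟩ := zs_of hZ hab U hUle hUn hreg hU2 ⟨u, hu, by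
    rintro rfl; exact huv (by rw [one_mul, mul_one])⟩
  obtain ⟨n, hn1, hnodd, hD, hE, hQ, hG⟩ := h.main ⟨u, hu, v, hv, huv⟩
  have : Fact (Nat.Prime 2) := ⟨Nat.prime_two⟩
  have hcard := card_of_reg hab hUle hreg
  letI := h.act
  have hs := h.setup
  let F := GaloisField 2 n
  have hF : Nat.card F = 2 ^ n := GaloisField.card 2 n (by omega)
  haveI hFfin : Finite F := Nat.finite_of_card_ne_zero (by rw [hF]; positivity)
  letI : Fintype F := Fintype.ofFinite F
  have hFE : Nat.card F = Nat.card hs.E := hF.trans hE.symm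
  obtain ⟨φ, -, -, hφ⟩ := hs.typeA ⟨⟨u, hu⟩, ⟨v, hv⟩, fun e => huv (congrArg Subtype.val e)⟩
    (by
      have : Nat.card hs.E = 2 ^ n := hE
      rw [this, hQ]) F hFE
  obtain ⟨x0, hx0, hx01, hx02, -⟩ := h.exists_central
  obtain ⟨π, lam, -, -, -, -, -, hlam, -⟩ := hs.E_field (x0 := ⟨x0, hx0⟩) (Subtype.ext hx02)
    (fun e => hx01 (congrArg Subtype.val e)) F hFE
  have hcyc : IsCyclic (DD G a t) := isCyclic_of_subgroup_isDomain lam hlam
  have hDb : DD G a t = stabilizer G a ⊓ stabilizer G b := by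
    show stabilizer G a ⊓ stabilizer G (t • a) = _
    rw [htb]
  rw [hDb] at hcyc hD
  refine ⟨n, hnodd, hn1, ?_, hG, hcyc, hD, F, inferInstance, inferInstance, φ, ?_, hφ⟩
  · rw [hcard, hQ, ← pow_mul, mul_comm n 2]
  · rw [← Nat.card_eq_fintype_card, hF]

/-- simple Zassenhaus groups with a non-abelian 2-group as kernel have Suzuki order -/
theorem zas_suzuki [IsSimpleGroup G] (hZ : IsZassenhausGroup G Ω) (a : Ω) (U : Subgroup G)
    (hUle : U ≤ stabilizer G a) (hUn : ∀ h ∈ stabilizer G a, ∀ u ∈ U, h * u * h⁻¹ ∈ U)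
    (hreg : ∀ c d : Ω, c ≠ a → d ≠ a → ∃! u : U, (u : G) • c = d)
    (hU2 : IsPGroup 2 U) (hna : ∃ u ∈ U, ∃ v ∈ U, u * v ≠ v * u) : IsSuzuki G := by
  have hb : ∃ b : Ω, a ≠ b := by
    obtain ⟨-, -, -, ⟨g, -, x, y, hxy, -, -⟩, -⟩ := hZ
    by_cases hax : a = x
    · exact ⟨y, by rw [hax]; exact hxy⟩
    · exact ⟨x, hax⟩
  obtain ⟨b, hab⟩ := hb
  obtain ⟨n, ⟨m, hm⟩, hn1, -, hG, -⟩ := zas_main hZ hab U hUle hUn hreg hU2 hna
  refine ⟨inferInstance, m, by omega, ?_⟩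
  rw [hG, hm, mul_assoc, mul_assoc, mul_comm (2 ^ (2 * m + 1) - 1)]

end Cfsg.Agent.SuzId
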